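import Mathlib
import Groth.Agent.RelPCS.RelFPCalc

/-! `O_X` is finitely presented relative to `S` exactly for morphisms locally of finite presentation. -/

set_option autoImplicit false
set_option backward.isDefEq.respectTransparency false

universe u

open CategoryTheory Limits AlgebraicGeometry Opposite

attribute [local instance] HasDerivedCategory.standard

namespace Groth.Agent.RelFPUnit

open Groth.Agent.RelPCS

variable {X S : Scheme.{u}} (f : X ⟶ S)

theorem relFP_self_iff {R A : Type u} [CommRing R] [CommRing A] [Algebra R A] :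
    FlatCA.RelFinitePresentation R A A ↔ Algebra.FinitePresentation R A := by
  constructor
  · rintro ⟨n, φ, hφ, h⟩
    letI : Module (MvPolynomial (Fin n) R) A := Module.compHom A φ.toRingHom
    let l : MvPolynomial (Fin n) R →ₗ[MvPolynomial (Fin n) R] A :=
      { toFun := φ
        map_add' := map_add φ
        map_smul' := fun a b => map_mul φ a b }
    haveI : Module.FinitePresentation (MvPolynomial (Fin n) R) A := h
    exact Algebra.FinitePresentation.of_surjective hφ (Module.FinitePresentation.fg_ker l hφ)
  · rintro ⟨n, φ, hφ, hker⟩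
    refine ⟨n, φ, hφ, ?_⟩
    letI : Module (MvPolynomial (Fin n) R) A := Module.compHom A φ.toRingHom
    let l : MvPolynomial (Fin n) R →ₗ[MvPolynomial (Fin n) R] A :=
      { toFun := φ
        map_add' := map_add φ
        map_smul' := fun a b => map_mul φ a b }
    show Module.FinitePresentation (MvPolynomial (Fin n) R) A
    exact Module.finitePresentation_of_surjective l hφ hker

theorem isRelFP_unit_iff [LocallyOfFiniteType f] [Coh.IsQCoh (Coh.structureModule X)] :
    Flatn.IsRelFP f (Coh.structureModule X) ↔ LocallyOfFinitePresentation f := by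
  constructor
  · intro h
    refine ⟨fun {U} hU {V} hV e => ?_⟩
    letI := (f.appLE U V e).hom.toAlgebra
    exact relFP_self_iff.1 (relFPOn_of_isRelFP h ⟨V, hV⟩ ⟨U, hU⟩ e)
  · intro h
    refine isRelFP_of_forall fun U V e => ?_
    letI := (f.appLE (V : S.Opens) (U : X.Opens) e).hom.toAlgebra
    haveI : Algebra.FinitePresentation Γ(S, (V : S.Opens)) Γ(X, (U : X.Opens)) :=
      f.finitePresentation_appLE V.2 U.2 e
    exact relFP_self_iff.2 inferInstance

theorem isNPseudoCoherent_negOne_iff [LocallyOfFiniteType f] :
    DerSch.IsNPseudoCoherent f (-1) ↔ LocallyOfFinitePresentation f := by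
  haveI : Coh.IsQCoh (Coh.structureModule X) :=
    Groth.Agent.QC.isQCoh_unit X
  let e : DCoh.toD X (DerSch.unitCx X) ≅ DCoh.inD X (Coh.structureModule X) :=
    ((DerivedCategory.singleFunctorIsoCompQ X.Modules 0).app (Coh.structureModule X)).symm
  rw [← isRelFP_unit_iff f]
  constructor
  · intro h
    exact ((rel_inD_negOne_iff _).1 (rel_of_qpc fun _ hU _ hV hle _ _ hφ => qpc_iso e (qpc_of_rel h hU hV hle hφ))).2
  · intro h
    exact rel_of_qpc fun _ hU _ hV hle _ _ hφ =>
      qpc_iso e.symm (qpc_of_rel ((rel_inD_negOne_iff _).2 ⟨inferInstance, h⟩) hU hV hle hφ)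

end Groth.Agent.RelFPUnit
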